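import Groth.Prelude.Def_FinFr
import Groth.Agent.Etcore.LamTriv
import Groth.Agent.Etcore.StrataGen
import Groth.Agent.Sga4B.ShriekTools

/-!
# Extension by zero of constructible sheaves of `Λ`-modules, `Λ` an arbitrary ring

* `restr_of_trivOn`: converse of `Etcore.LamTriv.trivOn_of_restr`;
* `Triv L g`: étale-locally on the source of `g`, the pullback of `L` along `g` is constant of finite type;
* `isFTLC_pullback_iff`: `EtLam.IsFTLC (EtLam.pullback g L) ↔ Triv L g`;
* `isConstructible_iff`: `EtLam.IsConstructible L ↔ IsCons (Triv L)`;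
* `isConstructible_extZero`: `j_! L` is constructible if `L` is, for a quasi-compact open immersion `j` into a
  qcqs scheme.
-/

set_option autoImplicit false
universe u

open CategoryTheory CategoryTheory.Limits AlgebraicGeometry Opposite Topology

namespace Groth.Agent.EtShriek.K391.ExtZeroLam

open Groth.Agent.Etcore Groth.Agent.Etcore.LamFG Groth.Agent.Etcore.FinPushFG Groth.Agent.Etcore.StalkFG
  Groth.Agent.Etcore.ConstFG Groth.Agent.Etcore.LamTriv Groth.Agent.Etcore.StrataGen
  Groth.Agent.Sga4B.ShriekTools Groth.Agent.EtpbcA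

variable {Λ : Type} [CommRing Λ]

/-- Converse of `trivOn_of_restr`. -/
theorem restr_of_trivOn {X : Scheme.{u}} (V : X.Etale) {F : EtCoh.Ab X} {ρ : Λ →+* End F}
    {M : Type} [AddCommGroup M] [Module Λ M] (h : TrivOn (OverSite.str V) F ρ M) :
    ∃ e : EtCoh.restr F V ≅ EtPBC.constOver V M,
      ∀ r : Λ, (X.smallEtaleTopology.overPullback AddCommGrpCat.{u + 1} V).map (ρ r) ≫ e.hom =
        e.hom ≫ EtLam.constOverAct V M r := by
  obtain ⟨e, he⟩ := h
  let T := OverSite.transport V
  refine ⟨((OverSite.pullTransportIso V).app F).symm ≪≫ T.mapIso e ≪≫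
    ((OverSite2.constTransportIso V).app _).symm, fun r => ?_⟩
  have h1 := (OverSite.pullTransportIso V).inv.naturality (ρ r)
  have h2 := (OverSite2.constTransportIso V).inv.naturality
    (AddCommGrpCat.ofHom (DistribSMul.toAddMonoidHom (ULift.{u + 1} M) r))
  have h3 : T.map ((EtCoh.pull (OverSite.str V)).map (ρ r)) ≫ T.map e.hom =
      T.map e.hom ≫ T.map ((constantSheaf V.left.smallEtaleTopology AddCommGrpCat.{u + 1}).map
        (AddCommGrpCat.ofHom (DistribSMul.toAddMonoidHom (ULift.{u + 1} M) r))) := by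
    rw [← T.map_comp, ← T.map_comp]
    exact congrArg T.map (he r)
  change _ ≫ (OverSite.pullTransportIso V).inv.app F ≫ T.map e.hom ≫
      (OverSite2.constTransportIso V).inv.app _ =
    ((OverSite.pullTransportIso V).inv.app F ≫ T.map e.hom ≫
      (OverSite2.constTransportIso V).inv.app _) ≫ _
  rw [Category.assoc, Category.assoc]
  exact ((reassoc_of% h1) _).trans (congrArg _ (((reassoc_of% h3) _).trans (congrArg _ h2)))

/-- Étale-locally on the source of `g`, the pullback of `L` along `g` is constant of finite type. -/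
def Triv {X : Scheme.{u}} (L : EtLam.Sheaf Λ X) : Prp X := fun T g =>
  ∃ (ι : Type u) (U : ι → T.Etale), EtCoh.Covers U ∧ ∀ i, ∃ (M : Type) (_ : AddCommGroup M)
    (_ : Module Λ M), Module.Finite Λ M ∧ TrivOn (OverSite.str (U i) ≫ g) L.carrier L.act M

theorem isFTLC_pullback_iff {X T : Scheme.{u}} (g : T ⟶ X) [(EtCoh.pull g).Additive]
    (L : EtLam.Sheaf Λ X) : EtLam.IsFTLC (EtLam.pullback g L) ↔ Triv L T g := by
  constructor
  · rintro ⟨ι, U, hU, h⟩
    refine ⟨ι, U, hU, fun i => ?_⟩
    obtain ⟨M, i1, i2, i3, e, he⟩ := h i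
    exact ⟨M, i1, i2, i3, (TrivOn.pull_iff _ _).1 (trivOn_of_restr (U i) e he)⟩
  · rintro ⟨ι, U, hU, h⟩
    refine ⟨ι, U, hU, fun i => ?_⟩
    obtain ⟨M, i1, i2, i3, h⟩ := h i
    obtain ⟨e, he⟩ := restr_of_trivOn (U i) ((TrivOn.pull_iff _ _).2 h)
    exact ⟨M, i1, i2, i3, e, he⟩

theorem stable_triv {X : Scheme.{u}} (L : EtLam.Sheaf Λ X) : Stable (Triv L) := by
  rintro T T' h g ⟨ι, U, hU, H⟩
  refine ⟨ι, fun i => (EtCoh.bc h).obj (U i), ?_, fun i => ?_⟩
  · intro x
    obtain ⟨i, v, hv⟩ := hU (h x)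
    obtain ⟨z, hz1, hz2⟩ := Scheme.Pullback.exists_preimage_pullback (f := (U i).hom) (g := h) v x hv
    exact ⟨i, z, hz2⟩
  · obtain ⟨M, i1, i2, i3, H⟩ := H i
    refine ⟨M, i1, i2, i3, ?_⟩
    have : OverSite.str ((EtCoh.bc h).obj (U i)) ≫ h ≫ g =
        pullback.fst (U i).hom h ≫ OverSite.str (U i) ≫ g := by
      rw [← Category.assoc, ← Category.assoc]
      congr 1
      exact pullback.condition.symm
    rw [this]
    exact H.comp _

theorem isConstructible_iff {X : Scheme.{u}} (L : EtLam.Sheaf Λ X) :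
    EtLam.IsConstructible L ↔ IsCons (Triv L) := by
  constructor
  · intro h U hU
    obtain ⟨n, T, g, h1, h2, h3, h4, h5⟩ := h U hU
    exact ⟨n, T, g, h1, h2, h3, h4, fun i => (isFTLC_pullback_iff (g i) L).1 (h5 i)⟩
  · intro h U hU
    obtain ⟨n, T, g, h1, h2, h3, h4, h5⟩ := h U hU
    exact ⟨n, T, g, h1, h2, h3, h4, fun i _ => (isFTLC_pullback_iff (g i) L).2 (h5 i)⟩

/-- A sheaf which vanishes is trivial. -/
theorem triv_of_isZero {X T : Scheme.{u}} (g : T ⟶ X) (L : EtLam.Sheaf Λ X)
    (h : ∀ (T' : Scheme.{u}) (g' : T' ⟶ T), IsZero ((EtCoh.pull (g' ≫ g)).obj L.carrier)) :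
    Triv L T g := by
  refine ⟨PUnit, fun _ => MorphismProperty.Over.mk ⊤ (𝟙 T) (by
      infer_instance), fun x => ⟨⟨⟩, x, rfl⟩, fun _ => ?_⟩
  refine ⟨PUnit, inferInstance, inferInstance, inferInstance, ?_⟩
  have hz : IsZero (AddCommGrpCat.of (ULift.{u + 1} PUnit.{1})) := AddCommGrpCat.isZero_of_subsingleton _
  have h0 : (constantSheaf T.smallEtaleTopology AddCommGrpCat.{u + 1}).Additive := by
    unfold constantSheaf
    infer_instance
  have h1 : IsZero (EtCoh.const T PUnit.{1}) :=
    (constantSheaf T.smallEtaleTopology AddCommGrpCat.{u + 1}).map_isZero hz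
  exact ⟨(h _ _).iso h1, fun r => h1.eq_of_tgt _ _⟩

section ExtZero

variable {U X : Scheme.{u}} (j : U ⟶ X) [IsOpenImmersion j]

omit [IsOpenImmersion j] in
theorem pullExtZeroIso_naturality [IsOpenImmersion j] {F G : EtCoh.Ab U} (φ : F ⟶ G) :
    (EtCoh.pull j).map ((EtShriek.extZero j).map φ) ≫ (pullExtZeroIso j G).hom =
      (pullExtZeroIso j F).hom ≫ φ := by
  unfold pullExtZeroIso
  simp only [Iso.trans_hom, Iso.app_hom, Iso.symm_hom, asIso_inv, Category.assoc]
  have h1 := (Groth.Agent.Etcore.ShriekBasic.pullIsoRestr j).hom.naturality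
    ((EtShriek.extZero j).map φ)
  have h2 := (EtShriek.extZeroAdj j).unit.naturality φ
  rw [← Category.assoc]
  refine (congrArg (· ≫ _) h1).trans ?_
  rw [Category.assoc]
  refine congrArg (_ ≫ ·) ?_
  rw [IsIso.comp_inv_eq, Category.assoc]
  symm
  rw [IsIso.inv_comp_eq]
  exact h2

/-- Sheaves with `Λ`-action: `j⁻¹ j_! L ≅ L`, equivariantly. -/
theorem trivOn_extZero (L : EtLam.Sheaf Λ U) {W : Scheme.{u}} (h : W ⟶ U) {M : Type} [AddCommGroup M]
    [Module Λ M] (H : TrivOn h L.carrier L.act M) :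
    TrivOn (h ≫ j) (FinFr.extZeroLam j L).carrier (FinFr.extZeroLam j L).act M := by
  refine (TrivOn.pull_iff h j).1 (TrivOn.of_iso (pullExtZeroIso j L.carrier) (fun r => ?_) H)
  exact pullExtZeroIso_naturality j (L.act r)

theorem isCons_triv_extZero [QuasiCompact j] [CompactSpace X] [QuasiSeparatedSpace X]
    (L : EtLam.Sheaf Λ U) (hL : IsCons (Triv L)) : IsCons (Triv (FinFr.extZeroLam j L)) := by
  let Z : TopologicalSpace.Closeds X := ⟨(Set.range j)ᶜ, j.isOpenEmbedding.isOpen_range.isClosed_compl⟩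
  let I := Scheme.IdealSheafData.vanishingIdeal Z
  have hI : Set.range I.subschemeι = (Set.range j)ᶜ := by
    rw [Scheme.IdealSheafData.range_subschemeι, Scheme.IdealSheafData.coe_support_vanishingIdeal]
    rfl
  have hc : Topology.IsConstructible (Set.range j) := by
    have hU : CompactSpace U := QuasiCompact.compactSpace_of_compactSpace j
    refine IsRetrocompact.isConstructible j.isOpenEmbedding.isOpen_range ?_
    intro V hV1 hV2
    have h3 : Set.range j ∩ V = j '' (j ⁻¹' V) := by
      rw [Set.image_preimage_eq_inter_range, Set.inter_comm]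
    rw [h3]
    exact (QuasiCompact.isCompact_preimage (f := j) V hV2 hV1).image j.continuous
  let T : Bool → Scheme.{u} := fun b => match b with
      | true => U
      | false => I.subscheme
  let g : ∀ b : Bool, T b ⟶ X := fun b => match b with
      | true => j
      | false => I.subschemeι
  have : ∀ b : Bool, IsImmersion (g b) := by
    rintro (_ | _)
    · exact (inferInstance : IsImmersion I.subschemeι)
    · exact (inferInstance : IsImmersion j)
  let P' : ∀ b : Bool, Prp (T b) := fun b => match b with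
      | true => Triv L
      | false => fun _ _ => True
  refine isCons_of_strata (stable_triv _) (ι := Bool) T g ?_ ?_ P' ?_ ?_ ?_
  · rintro (_ | _)
    · change Topology.IsConstructible (Set.range I.subschemeι)
      rw [hI]
      exact hc.compl
    · exact hc
  · rw [Set.eq_univ_iff_forall]
    intro x
    rw [Set.mem_iUnion]
    by_cases hx : x ∈ Set.range j
    · exact ⟨true, hx⟩
    · refine ⟨false, ?_⟩
      change x ∈ Set.range I.subschemeι
      rw [hI]
      exact hx
  · rintro (_ | _)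
    · exact fun _ _ _ _ _ => trivial
    · exact stable_triv L
  · rintro (_ | _) T' g' h
    · refine triv_of_isZero _ _ fun T'' g'' => isZero_pull_extZero j _ ?_ _
      have h1 : Set.range (g'' ≫ g' ≫ I.subschemeι) ⊆ Set.range I.subschemeι := by
        rw [← Category.assoc]
        rintro _ ⟨y, rfl⟩
        exact ⟨(g'' ≫ g') y, rfl⟩
      rw [hI] at h1
      exact (disjoint_compl_left.mono_left h1)
    · obtain ⟨ι, V, hV, H⟩ := h
      refine ⟨ι, V, hV, fun i => ?_⟩
      obtain ⟨M, i1, i2, i3, H⟩ := H i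
      exact ⟨M, i1, i2, i3, trivOn_extZero j L (OverSite.str (V i) ≫ g') H⟩
  · rintro (_ | _)
    · refine isCons_of_local' (fun _ _ _ _ _ => trivial) fun x => ⟨⊤, trivial, I.subscheme, 𝟙 _,
        inferInstance, fun _ _ => trivial, ⟨x, rfl⟩, ?_, trivial⟩
      have : ((Subtype.val : ((⊤ : I.subscheme.Opens) : Set I.subscheme) → I.subscheme) ⁻¹'
          Set.range (𝟙 I.subscheme : I.subscheme ⟶ I.subscheme)) = Set.univ :=
        Set.eq_univ_of_forall fun y => ⟨y.1, rfl⟩
      rw [this]
      exact IsConstructible.univ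
    · exact hL

theorem isConstructible_extZero [QuasiCompact j] [CompactSpace X] [QuasiSeparatedSpace X]
    (L : EtLam.Sheaf Λ U) (hL : EtLam.IsConstructible L) :
    EtLam.IsConstructible (FinFr.extZeroLam j L) :=
  (isConstructible_iff _).2 (isCons_triv_extZero j L ((isConstructible_iff L).1 hL))

end ExtZero

end Groth.Agent.EtShriek.K391.ExtZeroLam
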